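import Groth.Agent.FlatStrat.Alg
import Groth.Agent.FittX.Free
import Mathlib.RingTheory.Flat.LocallyFree
import Mathlib.RingTheory.Spectrum.Prime.FreeLocus
import Mathlib.Algebra.DirectSum.Decomposition

/-!
# The stratum of a Hilbert function
-/

set_option autoImplicit false
set_option linter.style.haveILetI false

universe u

namespace Groth.Agent.HilbStrat6

open TensorProduct Module

/-- Finite projective of constant rank, read on Fitting ideals. -/
theorem projective_rank_iff_fitt {B : Type u} [CommRing B] (N : Type u) [AddCommGroup N] [Module B N]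
    [Module.FinitePresentation B N] (r : ℕ) :
    (Module.Projective B N ∧ ∀ p : PrimeSpectrum B, Module.rankAtStalk N p = r) ↔
      ((∀ k, k < r → Fitt.ideal B N k = ⊥) ∧ (∀ k, r ≤ k → Fitt.ideal B N k = ⊤)) := by
  constructor
  · rintro ⟨hproj, hr⟩
    haveI := hproj
    refine (FittX.locallyFree_iff r).1 fun p hp => ?_
    obtain ⟨f, hf, hfree⟩ := Module.Free.away_of_finite_of_flat_of_rankAtStalk_constant N p
      (fun m _ => (hr ⟨m, inferInstance⟩).trans (hr ⟨p, inferInstance⟩).symm)
    refine ⟨f, hf, hfree, ?_⟩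
    haveI := hfree
    haveI : Module.Finite (Localization.Away f) (LocalizedModule (Submonoid.powers f) N) :=
      Module.Finite.of_isLocalizedModule (Submonoid.powers f) (LocalizedModule.mkLinearMap (Submonoid.powers f) N)
    have hprime := IsLocalization.isPrime_of_isPrime_disjoint (Submonoid.powers f) (Localization.Away f) p hp
      (by rwa [Ideal.disjoint_powers_iff_notMem _ hp.isRadical])
    let P : PrimeSpectrum (Localization.Away f) := ⟨p.map (algebraMap B (Localization.Away f)), hprime⟩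
    haveI : Nontrivial (Localization.Away f) :=
      ⟨0, 1, fun h => P.isPrime.ne_top ((Ideal.eq_top_iff_one _).2 (h ▸ P.asIdeal.zero_mem))⟩
    have h1 : Module.rankAtStalk (LocalizedModule (Submonoid.powers f) N) P = r := by
      rw [Module.rankAtStalk_isBaseChange (LocalizedModule.isBaseChange (Submonoid.powers f) _), hr]
    rwa [Module.rankAtStalk_eq_finrank_of_free] at h1
  · intro hF
    obtain ⟨h0, h1⟩ := hF
    have hloc := (FittX.locallyFree_iff r).2 ⟨h0, h1⟩
    choose a ha hfree _ using fun p : PrimeSpectrum B => hloc p.asIdeal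
    have hspan : Ideal.span (Set.range a) = ⊤ := by
      by_contra hne
      obtain ⟨m, hm, hle⟩ := Ideal.exists_le_maximal _ hne
      exact ha ⟨m, hm.isPrime⟩ (hle (Ideal.subset_span ⟨_, rfl⟩))
    haveI : Module.Flat B N := by
      refine @Module.flat_of_localized_span B _ N _ _ (Set.range a) hspan ?_
      rintro ⟨_, p, rfl⟩
      haveI := hfree p
      exact Module.Flat.trans B (Localization.Away (a p)) _
    refine ⟨Module.Flat.projective_of_finitePresentation, fun p => ?_⟩
    rw [Module.rankAtStalk_eq]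
    refine le_antisymm ?_ ?_
    · refine (FittX.not_le_iff_fiber N r p.asIdeal).1 ?_
      rw [h1 r le_rfl, top_le_iff]
      exact p.isPrime.ne_top
    · by_contra hlt
      rw [not_le] at hlt
      refine (FittX.not_le_iff_fiber N (r - 1) p.asIdeal).2 (Nat.le_sub_one_of_lt hlt) ?_
      rw [h0 (r - 1) (by omega)]
      exact bot_le

/-- For a finite projective module the Fitting ideals detect the rank. -/
theorem fitt_le_iff_lt_rank {B : Type u} [CommRing B] (N : Type u) [AddCommGroup N] [Module B N]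
    [Module.Finite B N] [Module.Flat B N] (k : ℕ) (p : PrimeSpectrum B) :
    Fitt.ideal B N k ≤ p.asIdeal ↔ k < Module.rankAtStalk N p := by
  rw [Module.rankAtStalk_eq, ← not_iff_not, not_lt]
  exact FittX.not_le_iff_fiber N k p.asIdeal

theorem exists_stratum (A : Type u) [CommRing A] [IsNoetherianRing A] (R : Type u) [CommRing R] [Algebra A R]
    [Algebra.FiniteType A R] (M : Type u) [AddCommGroup M] [Module A M] [Module R M] [IsScalarTower A R M]
    [Module.Finite R M] (ℳ : ℤ → Submodule A M) [DirectSum.Decomposition ℳ]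
    (hfg : ∀ v : ℤ, Module.Finite A ↥(ℳ v)) (h : ℤ → ℕ) :
    ∃ a b : Ideal A, ∀ (B : Type u) [CommRing B] [Algebra A B],
      ((∀ v : ℤ, Module.Finite B (B ⊗[A] ↥(ℳ v)) ∧ Module.Projective B (B ⊗[A] ↥(ℳ v)) ∧
          ∀ p : PrimeSpectrum B, Module.rankAtStalk (B ⊗[A] ↥(ℳ v)) p = h v) ↔
        (Ideal.map (algebraMap A B) a = ⊥ ∧ Ideal.map (algebraMap A B) b = ⊤)) := by
  classical
  haveI := hfg
  haveI : ∀ v, Module.FinitePresentation A (ℳ v) := fun v => Module.finitePresentation_of_finite A _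
  haveI : IsNoetherianRing R := Algebra.FiniteType.isNoetherianRing A R
  haveI : Algebra.FinitePresentation A R := Algebra.FinitePresentation.of_finiteType.1 inferInstance
  haveI : Module.FinitePresentation R M := Module.finitePresentation_of_finite R M
  let F : ℤ → ℕ → Ideal A := fun v k => Fitt.ideal A (ℳ v) k
  have hF : ∀ (B : Type u) [CommRing B] [Algebra A B] (v : ℤ) (k : ℕ),
      Fitt.ideal B (B ⊗[A] ↥(ℳ v)) k = (F v k).map (algebraMap A B) := fun B _ _ v k =>
    FittX.ideal_baseChange (TensorProduct.isBaseChange A (ℳ v) B) k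
  let a : Ideal A := ⨆ (v : ℤ) (k : ℕ) (_ : k < h v), F v k
  obtain ⟨Ls, hLs, hcov⟩ := FlatStrat.exists_triv_cover (R := A) (S := R) M
  let E : Ideal A → Prop := fun q => a ≤ q ∧ ∃ v, F v (h v) ≤ q
  let T : Set (Ideal A) := {q | q.IsPrime ∧ E q ∧ ∃ x ∈ Ls, ∃ P ∈ minimalPrimes
    (Localization.Away (Ideal.Quotient.mk (x.1 ⊔ a) x.2)), q = P.comap (algebraMap A _)}
  have hT : T.Finite := by
    refine (Ls.finite_toSet.biUnion (t := fun x => (fun P => P.comap (algebraMap A
      (Localization.Away (Ideal.Quotient.mk (x.1 ⊔ a) x.2)))) '' minimalPrimes _) fun x _ =>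
        (minimalPrimes.finite_of_isNoetherianRing _).image _).subset ?_
    rintro q ⟨-, -, x, hx, P, hP, rfl⟩
    exact Set.mem_biUnion hx ⟨P, hP, rfl⟩
  -- every bad prime specializes from one of finitely many bad primes
  have key : ∀ q : Ideal A, q.IsPrime → E q → ∃ t ∈ T, t ≤ q := by
    rintro q hq ⟨haq, v, hv⟩
    obtain ⟨x, hx, hpq, hfq⟩ := hcov q hq
    let J := x.1 ⊔ a
    let L := Localization.Away (Ideal.Quotient.mk J x.2)
    have hJq : J ≤ q := sup_le hpq haq
    haveI : Module.Flat L (L ⊗[A] M) := (hLs x hx).2 L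
      (fun y hy => by
        rw [IsScalarTower.algebraMap_apply A (A ⧸ J) L, Ideal.Quotient.algebraMap_eq,
          Ideal.Quotient.eq_zero_iff_mem.2 (Ideal.mem_sup_left hy), map_zero])
      (by
        rw [IsScalarTower.algebraMap_apply A (A ⧸ J) L, Ideal.Quotient.algebraMap_eq]
        exact IsLocalization.Away.algebraMap_isUnit _)
    let ι : ↥(ℳ v) →ₗ[A] M := (ℳ v).subtype
    let π : M →ₗ[A] ↥(ℳ v) := (DirectSum.component A ℤ (fun i => ↥(ℳ i)) v).comp
      (DirectSum.decomposeLinearEquiv ℳ).toLinearMap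
    have hπι : π.comp ι = LinearMap.id := LinearMap.ext fun m => by
      simp [π, ι]
    haveI : Module.Flat L (L ⊗[A] ↥(ℳ v)) := Module.Flat.of_retract (ι.baseChange L) (π.baseChange L)
      (by rw [← LinearMap.baseChange_comp, hπι, LinearMap.baseChange_id])
    -- the point of the piece over `q`
    let q₁ : Ideal (A ⧸ J) := q.map (Ideal.Quotient.mk J)
    haveI : q₁.IsPrime := Ideal.map_isPrime_of_surjective Ideal.Quotient.mk_surjective (by rwa [Ideal.mk_ker])
    have hq₁ : q₁.comap (Ideal.Quotient.mk J) = q := by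
      rw [Ideal.comap_map_of_surjective _ Ideal.Quotient.mk_surjective, ← RingHom.ker_eq_comap_bot,
        Ideal.mk_ker, sup_eq_left.2 hJq]
    have hfq₁ : Ideal.Quotient.mk J x.2 ∉ q₁ := fun h => hfq (hq₁.le h)
    have hdis : Disjoint (Submonoid.powers (Ideal.Quotient.mk J x.2) : Set (A ⧸ J)) q₁ := by
      rwa [Ideal.disjoint_powers_iff_notMem _ (Ideal.IsPrime.isRadical ‹_›)]
    haveI : (q₁.map (algebraMap (A ⧸ J) L)).IsPrime :=
      IsLocalization.isPrime_of_isPrime_disjoint (Submonoid.powers (Ideal.Quotient.mk J x.2)) L q₁ ‹_› hdis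
    let Q : PrimeSpectrum L := ⟨q₁.map (algebraMap (A ⧸ J) L), inferInstance⟩
    have hQ : Q.asIdeal.comap (algebraMap A L) = q := by
      show (q₁.map (algebraMap (A ⧸ J) L)).comap (algebraMap A L) = q
      have h1 : (q₁.map (algebraMap (A ⧸ J) L)).comap (algebraMap (A ⧸ J) L) = q₁ :=
        IsLocalization.under_map_of_isPrime_disjoint (Submonoid.powers (Ideal.Quotient.mk J x.2)) L ‹_› hdis
      rw [IsScalarTower.algebraMap_eq A (A ⧸ J) L, ← Ideal.comap_comap, h1]
      exact hq₁
    obtain ⟨P, hP, hPQ⟩ := Ideal.exists_minimalPrimes_le (I := (⊥ : Ideal L)) (J := Q.asIdeal) bot_le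
    haveI hPp : P.IsPrime := hP.1.1
    have hvQ : Fitt.ideal L (L ⊗[A] ↥(ℳ v)) (h v) ≤ Q.asIdeal := by
      rw [hF, Ideal.map_le_iff_le_comap, hQ]
      exact hv
    rw [fitt_le_iff_lt_rank, ← Module.rankAtStalk_eq_of_le_of_finite_of_flat (L ⊗[A] ↥(ℳ v)) (p := ⟨P, hPp⟩) (q := Q) hPQ,
      ← fitt_le_iff_lt_rank, hF, Ideal.map_le_iff_le_comap] at hvQ
    have haP : a ≤ P.comap (algebraMap A L) := fun y hy => by
      rw [Ideal.mem_comap, IsScalarTower.algebraMap_apply A (A ⧸ J) L, Ideal.Quotient.algebraMap_eq,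
        Ideal.Quotient.eq_zero_iff_mem.2 (Ideal.mem_sup_right hy), map_zero]
      exact P.zero_mem
    exact ⟨P.comap (algebraMap A L), ⟨inferInstance, ⟨haP, v, hvQ⟩, x, hx, P, hP, rfl⟩,
      (Ideal.comap_mono hPQ).trans hQ.le⟩
  let b : Ideal A := hT.toFinset.inf id
  refine ⟨a, b, fun B _ _ => ?_⟩
  haveI : ∀ v, Module.FinitePresentation B (B ⊗[A] ↥(ℳ v)) := fun v => inferInstance
  have hiff : ∀ v, (Module.Finite B (B ⊗[A] ↥(ℳ v)) ∧ Module.Projective B (B ⊗[A] ↥(ℳ v)) ∧
      ∀ p : PrimeSpectrum B, Module.rankAtStalk (B ⊗[A] ↥(ℳ v)) p = h v) ↔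
      ((∀ k, k < h v → (F v k).map (algebraMap A B) = ⊥) ∧ (F v (h v)).map (algebraMap A B) = ⊤) := by
    intro v
    rw [and_iff_right (inferInstance : Module.Finite B (B ⊗[A] ↥(ℳ v))), projective_rank_iff_fitt]
    simp only [hF]
    refine and_congr_right fun _ => ⟨fun h' => h' _ le_rfl, fun h' k hk => ?_⟩
    rw [← hF, ← top_le_iff, ← h', ← hF]
    exact FittX.ideal_mono hk
  simp only [hiff]
  have haB : Ideal.map (algebraMap A B) a = ⊥ ↔ ∀ v k, k < h v → (F v k).map (algebraMap A B) = ⊥ := by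
    simp only [a, Ideal.map_iSup, iSup_eq_bot]
  rw [haB]
  constructor
  · intro hall
    refine ⟨fun v => (hall v).1, ?_⟩
    by_contra hne
    obtain ⟨m, hm, hle⟩ := Ideal.exists_le_maximal _ hne
    rw [Ideal.map_le_iff_le_comap] at hle
    obtain ⟨t, ht, htle⟩ := (Ideal.IsPrime.inf_le' (hm.isPrime.comap _)).1 hle
    obtain ⟨-, ⟨-, v, hv⟩, -⟩ := hT.mem_toFinset.1 ht
    have := Ideal.map_le_iff_le_comap.2 (hv.trans htle)
    rw [(hall v).2] at this
    exact hm.ne_top (top_le_iff.1 this)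
  · rintro ⟨ha, hb⟩ v
    refine ⟨ha v, ?_⟩
    by_contra hne
    obtain ⟨m, hm, hle⟩ := Ideal.exists_le_maximal _ hne
    rw [Ideal.map_le_iff_le_comap] at hle
    have ham : a ≤ m.comap (algebraMap A B) := by
      rw [← Ideal.map_le_iff_le_comap, haB.2 ha]
      exact bot_le
    obtain ⟨t, ht, htle⟩ := key _ (hm.isPrime.comap _) ⟨ham, v, hle⟩
    have h2 : b ≤ m.comap (algebraMap A B) := (Finset.inf_le (f := id) (hT.mem_toFinset.2 ht)).trans htle
    rw [← Ideal.map_le_iff_le_comap, hb] at h2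
    exact hm.ne_top (top_le_iff.1 h2)

end Groth.Agent.HilbStrat6
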